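import Groth.Agent.PullbackMod.Props
import Groth.Agent.PullbackMod.LocFree
import Groth.Agent.PullbackMod.FibreRank
import Groth.Agent.MilnorLib.Basic
import Groth.Agent.MilnorLib.Flat
import Groth.Agent.DCohLib.SuppOpen
/-!
Properties of quasi-coherent modules on a pinched scheme are detected on the two pieces.
-/

set_option autoImplicit false
set_option backward.isDefEq.respectTransparency false
set_option linter.style.haveILetI false

universe u

open CategoryTheory CategoryTheory.Limits AlgebraicGeometry TopologicalSpace Opposite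
open scoped TensorProduct

namespace Groth.Agent.PinchMod

variable {X Y Y' : Scheme.{u}} (f : X ⟶ Y) (u : Y' ⟶ Y)

theorem isFibreSquare [IsClosedImmersion u] {V : Y.Opens} (hV : IsAffineOpen V)
    (h1 : RingHom.ker (f.app V).hom ⊓ RingHom.ker (u.app V).hom = ⊥)
    (h2 : ∀ a ∈ Ideal.map (f.app V).hom (RingHom.ker (u.app V).hom),
        ∃ i ∈ RingHom.ker (u.app V).hom, (f.app V).hom i = a) :
    letI := (u.appLE V (u ⁻¹ᵁ V) le_rfl).hom.toAlgebra
    letI := (f.appLE V (f ⁻¹ᵁ V) le_rfl).hom.toAlgebra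
    ∃ (A : Type u) (_ : CommRing A) (_ : Algebra Γ(Y', u ⁻¹ᵁ V) A) (_ : Algebra Γ(X, f ⁻¹ᵁ V) A)
      (_ : Algebra Γ(Y, V) A) (_ : IsScalarTower Γ(Y, V) Γ(Y', u ⁻¹ᵁ V) A)
      (_ : IsScalarTower Γ(Y, V) Γ(X, f ⁻¹ᵁ V) A),
      EtMil.IsFibreSquare Γ(Y, V) Γ(Y', u ⁻¹ᵁ V) Γ(X, f ⁻¹ᵁ V) A := by
  rw [← Scheme.Hom.app_eq_appLE, ← Scheme.Hom.app_eq_appLE]
  letI := (u.app V).hom.toAlgebra
  letI := (f.app V).hom.toAlgebra
  let I := RingHom.ker (u.app V).hom
  let J := Ideal.map (f.app V).hom I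
  have hs : Function.Surjective (u.app V).hom := u.app_surjective _ hV
  let q : Γ(Y', u ⁻¹ᵁ V) →+* (Γ(X, f ⁻¹ᵁ V) ⧸ J) :=
    RingHom.liftOfSurjective (u.app V).hom hs ⟨(Ideal.Quotient.mk J).comp (f.app V).hom, fun c hc =>
      Ideal.Quotient.eq_zero_iff_mem.mpr (Ideal.mem_map_of_mem _ hc)⟩
  have hq : ∀ c, q ((u.app V).hom c) = Ideal.Quotient.mk J ((f.app V).hom c) := fun c =>
    RingHom.liftOfRightInverse_comp_apply _ _ _ _ c
  letI := q.toAlgebra
  letI : Algebra Γ(Y, V) (Γ(X, f ⁻¹ᵁ V) ⧸ J) := ((Ideal.Quotient.mk J).comp (f.app V).hom).toAlgebra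
  refine ⟨Γ(X, f ⁻¹ᵁ V) ⧸ J, inferInstance, inferInstance, inferInstance, inferInstance,
    .of_algebraMap_eq fun c => (hq c).symm, .of_algebraMap_eq fun c => rfl,
    Ideal.Quotient.mk_surjective, fun b a h => ?_⟩
  obtain ⟨c, rfl⟩ := hs b
  obtain ⟨i, hi, hia⟩ := h2 (a - (f.app V).hom c) (Ideal.Quotient.eq.mp (h.symm.trans (hq c)))
  refine ⟨c + i, ⟨?_, ?_⟩, fun c' hc' => ?_⟩
  · show (u.app V).hom (c + i) = _
    rw [map_add, RingHom.mem_ker.mp hi, add_zero]
  · show (f.app V).hom (c + i) = _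
    rw [map_add, hia, add_sub_cancel]
  · have : c' - (c + i) ∈ RingHom.ker (f.app V).hom ⊓ RingHom.ker (u.app V).hom := by
      refine ⟨?_, ?_⟩
      · show (f.app V).hom (c' - (c + i)) = 0
        rw [map_sub, map_add, hia, add_sub_cancel, show (f.app V).hom c' = a from hc'.2, sub_self]
      · show (u.app V).hom (c' - (c + i)) = 0
        rw [map_sub, map_add, RingHom.mem_ker.mp hi, add_zero,
          show (u.app V).hom c' = _ from hc'.1, sub_self]
    rw [h1, Ideal.mem_bot, sub_eq_zero] at this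
    exact this

/-- The pinching condition on all affine opens. -/
def IsPinch : Prop :=
  ∀ V ∈ Y.affineOpens,
    RingHom.ker (f.app V).hom ⊓ RingHom.ker (u.app V).hom = ⊥ ∧
    ∀ a ∈ Ideal.map (f.app V).hom (RingHom.ker (u.app V).hom),
      ∃ i ∈ RingHom.ker (u.app V).hom, (f.app V).hom i = a

variable [IsAffineHom f] [IsClosedImmersion u] (G : Y.Modules) [Coh.IsQCoh G]

theorem flat_sections (hM : IsPinch f u) (hu : FlatMod.IsFlat ((Scheme.Modules.pullback u).obj G))
    (hf : FlatMod.IsFlat ((Scheme.Modules.pullback f).obj G)) {V : Y.Opens} (hV : IsAffineOpen V) :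
    Module.Flat Γ(Y, V) Γ(G, V) := by
  haveI := PullbackMod.isQCoh_pullback u G
  haveI := PullbackMod.isQCoh_pullback f G
  letI := (u.appLE V (u ⁻¹ᵁ V) le_rfl).hom.toAlgebra
  letI := (f.appLE V (f ⁻¹ᵁ V) le_rfl).hom.toAlgebra
  obtain ⟨A, _, _, _, _, _, _, hsq⟩ := isFibreSquare f u hV (hM V hV).1 (hM V hV).2
  obtain ⟨φ, -⟩ := PullbackMod.exists_pullback_sections_equiv u G hV (hV.preimage u) le_rfl
  obtain ⟨ψ, -⟩ := PullbackMod.exists_pullback_sections_equiv f G hV (hV.preimage f) le_rfl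
  haveI := PullbackMod.flat_sections_of_flat_stalks (hW := hV.preimage u) _ hu
  haveI := PullbackMod.flat_sections_of_flat_stalks (hW := hV.preimage f) _ hf
  haveI := Module.Flat.of_linearEquiv φ
  haveI := Module.Flat.of_linearEquiv ψ
  exact MilnorLib.flat Γ(G, V) hsq

theorem finite_sections (hM : IsPinch f u)
    (hu : SheafOfModules.IsFiniteType (R := Y'.ringCatSheaf) ((Scheme.Modules.pullback u).obj G))
    (hf : SheafOfModules.IsFiniteType (R := X.ringCatSheaf) ((Scheme.Modules.pullback f).obj G))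
    {V : Y.Opens} (hV : IsAffineOpen V) :
    Module.Finite Γ(Y, V) Γ(G, V) := by
  haveI := PullbackMod.isQCoh_pullback u G
  haveI := PullbackMod.isQCoh_pullback f G
  letI := (u.appLE V (u ⁻¹ᵁ V) le_rfl).hom.toAlgebra
  letI := (f.appLE V (f ⁻¹ᵁ V) le_rfl).hom.toAlgebra
  obtain ⟨A, _, _, _, _, _, _, hsq⟩ := isFibreSquare f u hV (hM V hV).1 (hM V hV).2
  obtain ⟨φ, -⟩ := PullbackMod.exists_pullback_sections_equiv u G hV (hV.preimage u) le_rfl
  obtain ⟨ψ, -⟩ := PullbackMod.exists_pullback_sections_equiv f G hV (hV.preimage f) le_rfl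
  haveI := QCohLib.finite_sections _ hu (hV.preimage u)
  haveI := QCohLib.finite_sections _ hf (hV.preimage f)
  haveI := Module.Finite.equiv φ.symm
  haveI := Module.Finite.equiv ψ.symm
  exact MilnorLib.finite hsq Γ(G, V)

theorem finitePresentation_sections (hM : IsPinch f u)
    (hu : FlatMod.IsFinLocFree ((Scheme.Modules.pullback u).obj G))
    (hf : FlatMod.IsFinLocFree ((Scheme.Modules.pullback f).obj G))
    {V : Y.Opens} (hV : IsAffineOpen V) :
    Module.FinitePresentation Γ(Y, V) Γ(G, V) := by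
  obtain ⟨_, hu2, hu3⟩ := (PullbackMod.isFinLocFree_iff _).mp hu
  obtain ⟨_, hf2, hf3⟩ := (PullbackMod.isFinLocFree_iff _).mp hf
  haveI := PullbackMod.isQCoh_pullback u G
  haveI := PullbackMod.isQCoh_pullback f G
  letI := (u.appLE V (u ⁻¹ᵁ V) le_rfl).hom.toAlgebra
  letI := (f.appLE V (f ⁻¹ᵁ V) le_rfl).hom.toAlgebra
  obtain ⟨A, _, _, _, _, _, _, hsq⟩ := isFibreSquare f u hV (hM V hV).1 (hM V hV).2
  obtain ⟨φ, -⟩ := PullbackMod.exists_pullback_sections_equiv u G hV (hV.preimage u) le_rfl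
  obtain ⟨ψ, -⟩ := PullbackMod.exists_pullback_sections_equiv f G hV (hV.preimage f) le_rfl
  haveI := PullbackMod.flat_sections_of_flat_stalks (hW := hV.preimage u) _ hu3
  haveI := PullbackMod.flat_sections_of_flat_stalks (hW := hV.preimage f) _ hf3
  haveI := QCohLib.finitePresentation_sections _ hu2 (hV.preimage u)
  haveI := QCohLib.finitePresentation_sections _ hf2 (hV.preimage f)
  haveI := Module.Flat.of_linearEquiv φ
  haveI := Module.Flat.of_linearEquiv ψ
  haveI := Module.FinitePresentation.of_equiv φ.symm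
  haveI := Module.FinitePresentation.of_equiv ψ.symm
  exact MilnorLib.finitePresentation hsq Γ(G, V)

theorem isZero (hM : IsPinch f u) (hu : IsZero ((Scheme.Modules.pullback u).obj G))
    (hf : IsZero ((Scheme.Modules.pullback f).obj G)) : IsZero G := by
  haveI := PullbackMod.isQCoh_pullback u G
  haveI := PullbackMod.isQCoh_pullback f G
  refine DCohLib.isZero_of_stalks fun x => ?_
  obtain ⟨V, hV, hx, -⟩ := exists_isAffineOpen_mem_and_subset (U := ⊤) (show x ∈ (⊤ : Y.Opens) from trivial)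
  letI := (u.appLE V (u ⁻¹ᵁ V) le_rfl).hom.toAlgebra
  letI := (f.appLE V (f ⁻¹ᵁ V) le_rfl).hom.toAlgebra
  obtain ⟨A, _, _, _, _, _, _, hsq⟩ := isFibreSquare f u hV (hM V hV).1 (hM V hV).2
  obtain ⟨φ, -⟩ := PullbackMod.exists_pullback_sections_equiv u G hV (hV.preimage u) le_rfl
  obtain ⟨ψ, -⟩ := PullbackMod.exists_pullback_sections_equiv f G hV (hV.preimage f) le_rfl
  haveI : Subsingleton Γ((Scheme.Modules.pullback u).obj G, u ⁻¹ᵁ V) :=
    AddCommGrpCat.subsingleton_of_isZero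
      (((Scheme.Modules.toPresheaf Y').map_isZero hu).obj (op (u ⁻¹ᵁ V)))
  haveI : Subsingleton Γ((Scheme.Modules.pullback f).obj G, f ⁻¹ᵁ V) :=
    AddCommGrpCat.subsingleton_of_isZero
      (((Scheme.Modules.toPresheaf X).map_isZero hf).obj (op (f ⁻¹ᵁ V)))
  haveI := φ.toEquiv.subsingleton
  haveI := ψ.toEquiv.subsingleton
  haveI := MilnorLib.subsingleton hsq (L := Γ(G, V))
  letI := Module.compHom (G.presheaf.stalk x) (Y.presheaf.germ V x hx).hom
  haveI := FlatLocus.isLocalizedModule_germL G hV x hx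
  refine subsingleton_of_forall_eq 0 fun z => ?_
  obtain ⟨⟨m, s⟩, rfl⟩ := IsLocalizedModule.mk'_surjective (hV.primeIdealOf ⟨x, hx⟩).asIdeal.primeCompl
    (FlatLocus.germL G V x hx) z
  rw [Function.uncurry_apply_pair, Subsingleton.elim m 0, IsLocalizedModule.mk'_zero]

theorem isFlat_iff (hM : IsPinch f u) :
    FlatMod.IsFlat G ↔
      FlatMod.IsFlat ((Scheme.Modules.pullback u).obj G) ∧ FlatMod.IsFlat ((Scheme.Modules.pullback f).obj G) := by
  refine ⟨fun h => ⟨fun x => PullbackMod.isFlatAt_pullback u G x (h _),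
    fun x => PullbackMod.isFlatAt_pullback f G x (h _)⟩, fun ⟨hu, hf⟩ x => ?_⟩
  obtain ⟨V, hV, hx, -⟩ := exists_isAffineOpen_mem_and_subset (U := ⊤) (show x ∈ (⊤ : Y.Opens) from trivial)
  haveI := flat_sections f u G hM hu hf hV
  letI := Module.compHom (G.presheaf.stalk x) (Y.presheaf.germ V x hx).hom
  letI : Algebra Γ(Y, V) (Y.presheaf.stalk x) := TopCat.Presheaf.algebra_section_stalk Y.presheaf ⟨x, hx⟩
  haveI : IsScalarTower Γ(Y, V) (Y.presheaf.stalk x) (G.presheaf.stalk x) :=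
    .of_algebraMap_smul fun _ _ => rfl
  haveI := hV.isLocalization_stalk ⟨x, hx⟩
  haveI := FlatLocus.isLocalizedModule_germL G hV x hx
  exact Module.Flat.of_isLocalizedModule (Y.presheaf.stalk x)
    (hV.primeIdealOf ⟨x, hx⟩).asIdeal.primeCompl (FlatLocus.germL G V x hx)

theorem isFiniteType_iff (hM : IsPinch f u) :
    SheafOfModules.IsFiniteType (R := Y.ringCatSheaf) G ↔
      SheafOfModules.IsFiniteType (R := Y'.ringCatSheaf) ((Scheme.Modules.pullback u).obj G) ∧
        SheafOfModules.IsFiniteType (R := X.ringCatSheaf) ((Scheme.Modules.pullback f).obj G) :=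
  ⟨fun h => ⟨PullbackMod.isFiniteType_pullback u G h, PullbackMod.isFiniteType_pullback f G h⟩,
    fun h => QCohLib.isFiniteType_of_finite G (fun W : Y.affineOpens => W.1) (fun W => W.2)
      (QCohLib.iSup_affineOpens_eq_top Y) fun W => finite_sections f u G hM h.1 h.2 W.2⟩

theorem isFinLocFree_iff (hM : IsPinch f u) :
    FlatMod.IsFinLocFree G ↔
      FlatMod.IsFinLocFree ((Scheme.Modules.pullback u).obj G) ∧
        FlatMod.IsFinLocFree ((Scheme.Modules.pullback f).obj G) := by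
  refine ⟨fun h => ⟨PullbackMod.isFinLocFree_pullback u G h, PullbackMod.isFinLocFree_pullback f G h⟩,
    fun ⟨hu, hf⟩ => (PullbackMod.isFinLocFree_iff G).mpr ⟨‹_›, ?_, ?_⟩⟩
  · exact PullbackMod.isFP_of_finitePresentation G (fun W : Y.affineOpens => W.1) (fun W => W.2)
      (QCohLib.iSup_affineOpens_eq_top Y) fun W => finitePresentation_sections f u G hM hu hf W.2
  · exact (isFlat_iff f u G hM).mpr
      ⟨((PullbackMod.isFinLocFree_iff _).mp hu).2.2, ((PullbackMod.isFinLocFree_iff _).mp hf).2.2⟩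

end Groth.Agent.PinchMod
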